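import Groth.Agent.Lib.BddRes.Step
import Mathlib.CategoryTheory.Functor.OfSequence
import Mathlib.CategoryTheory.Limits.Constructions.EventuallyConstant
import Mathlib.Algebra.Homology.HomologicalComplexLimits
import Mathlib.Algebra.Homology.QuasiIso

/-! # Resolutions of maps of bounded above complexes -/

set_option autoImplicit false
universe v u

open CategoryTheory CategoryTheory.Limits HomologicalComplex ZeroObject

namespace GrothLib.BddRes

variable {A : Type u} [Category.{v} A] [Abelian A] [HasColimitsOfShape ℕ A]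
  {P : ObjectProperty A} (hP : IsResClass P) {K T : CochainComplex A ℤ} (f : K ⟶ T) (b : ℤ)
  (hK : ∀ n, b < n → IsZero (K.X n)) (hT : ∀ n, b < n → IsZero (T.X n))

/-- The first stage. -/
noncomputable def base : Stg P f b (b + 1 - ((0 : ℕ) : ℤ)) where
  E := K
  j := 𝟙 K
  q := f
  fac := Category.id_comp f
  le := hK
  split i := ⟨0, hP.zero _ (isZero_zero A), (isoBiprodZero (isZero_zero A)).symm, by simp⟩
  epi_f n hn := (hT n (by push_cast at hn; omega)).epi _
  epi_Z n hn := IsZero.epi (IsZero.of_mono (T.iCycles n) (hT n (by push_cast at hn; omega))) _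
  mono_H n hn := (K.exactAt_iff_isZero_homology n |>.1
    (ShortComplex.exact_of_isZero_X₂ _ (hK n (by push_cast at hn; omega)))).mono _

/-- The stages. -/
noncomputable def stage : ∀ k : ℕ, Stg P f b (b + 1 - (k : ℤ))
  | 0 => base hP f b hK hT
  | k + 1 => next hP (stage k) (show b + 1 - ((k + 1 : ℕ) : ℤ) + 1 = b + 1 - (k : ℤ) by push_cast; omega)
      (by omega)

/-- The complexes. -/
noncomputable def stageFun : ℕ ⥤ CochainComplex A ℤ :=
  Functor.ofSequence (X := fun k => (stage hP f b hK hT k).E) fun k => incl hP (stage hP f b hK hT k)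

theorem stageFun_succ (k : ℕ) :
    (stageFun hP f b hK hT).map (homOfLE (Nat.le_succ k)) = incl hP (stage hP f b hK hT k) :=
  Functor.ofSequence_map_homOfLE_succ _ k

theorem isIso_stageFun_map {n : ℤ} {k₀ : ℕ} (h : b + 1 - (k₀ : ℤ) ≤ n) :
    ∀ (k : ℕ) (hk : k₀ ≤ k), IsIso (((stageFun hP f b hK hT).map (homOfLE hk)).f n) := by
  intro k hk
  induction k, hk using Nat.le_induction with
  | base =>
    rw [show homOfLE (le_refl k₀) = 𝟙 k₀ from rfl, CategoryTheory.Functor.map_id, HomologicalComplex.id_f]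
    infer_instance
  | succ k hk ih =>
    rw [← homOfLE_comp hk (Nat.le_succ k), CategoryTheory.Functor.map_comp, HomologicalComplex.comp_f,
      stageFun_succ]
    have := isIso_incl_f hP (stage hP f b hK hT k) (m' := b + 1 - ((k + 1 : ℕ) : ℤ)) (n := n)
      (by push_cast; omega)
    exact @IsIso.comp_isIso _ _ _ _ _ _ _ ih this

theorem eventuallyConstant {n : ℤ} {k₀ : ℕ} (h : b + 1 - (k₀ : ℤ) ≤ n) :
    (stageFun hP f b hK hT ⋙ HomologicalComplex.eval A (ComplexShape.up ℤ) n).IsEventuallyConstantFrom k₀ :=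
  fun k φ => isIso_stageFun_map hP f b hK hT h k (leOfHom φ)

/-- The union. -/
noncomputable abbrev res : CochainComplex A ℤ := colimit (stageFun hP f b hK hT)

theorem isIso_ι_f {n : ℤ} {k₀ : ℕ} (h : b + 1 - (k₀ : ℤ) ≤ n) :
    IsIso ((colimit.ι (stageFun hP f b hK hT) k₀).f n) :=
  (eventuallyConstant hP f b hK hT h).isIso_ι_of_isColimit
    (isColimitOfPreserves (HomologicalComplex.eval A (ComplexShape.up ℤ) n) (colimit.isColimit _))

/-- The resolving map. -/
noncomputable def resQ : res hP f b hK hT ⟶ T :=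
  colimit.desc _ ⟨T, NatTrans.ofSequence (fun k => (stage hP f b hK hT k).q) fun k => by
    rw [stageFun_succ]
    exact (incl_nextQ hP _ _).trans (Category.comp_id _).symm⟩

@[reassoc (attr := simp)]
theorem ι_resQ (k : ℕ) : colimit.ι (stageFun hP f b hK hT) k ≫ resQ hP f b hK hT = (stage hP f b hK hT k).q :=
  colimit.ι_desc _ _

theorem ι_resJ (k : ℕ) : (stage hP f b hK hT 0).j ≫ colimit.ι (stageFun hP f b hK hT) 0 =
    (stage hP f b hK hT k).j ≫ colimit.ι (stageFun hP f b hK hT) k := by
  induction k with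
  | zero => rfl
  | succ k ih =>
    rw [ih]
    refine Eq.trans ?_ (Category.assoc ((stage hP f b hK hT k).j) (incl hP (stage hP f b hK hT k))
      (colimit.ι (stageFun hP f b hK hT) (k + 1))).symm
    refine congrArg ((stage hP f b hK hT k).j ≫ ·) ?_
    rw [← stageFun_succ]
    exact (colimit.w (stageFun hP f b hK hT) (homOfLE (Nat.le_succ k))).symm

theorem epi_resQ_f (n : ℤ) : Epi ((resQ hP f b hK hT).f n) := by
  have h : b + 1 - (((b + 1 - n).toNat : ℕ) : ℤ) ≤ n := by omega
  have := (stage hP f b hK hT (b + 1 - n).toNat).epi_f n h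
  rw [← ι_resQ, HomologicalComplex.comp_f] at this
  exact @epi_of_epi _ _ _ _ _ ((colimit.ι (stageFun hP f b hK hT) (b + 1 - n).toNat).f n) _ this

theorem quasiIso_resQ : QuasiIso (resQ hP f b hK hT) := by
  refine (quasiIso_iff _).2 fun n => ?_
  let k := (b + 1 - n).toNat + 2
  let R := stage hP f b hK hT k
  have hk : b + 1 - (k : ℤ) ≤ n - 1 := by omega
  have h1 := isIso_ι_f hP f b hK hT hk
  have h2 := isIso_ι_f hP f b hK hT (show b + 1 - (k : ℤ) ≤ n by omega)
  have h3 := isIso_ι_f hP f b hK hT (show b + 1 - (k : ℤ) ≤ n + 1 by omega)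
  have hι : QuasiIsoAt (colimit.ι (stageFun hP f b hK hT) k) n := by
    rw [quasiIsoAt_iff' _ (n - 1) n (n + 1) (by simp) (by simp)]
    let φ := (shortComplexFunctor' A (ComplexShape.up ℤ) (n - 1) n (n + 1)).map (colimit.ι (stageFun hP f b hK hT) k)
    have : IsIso φ.τ₁ := h1
    have : IsIso φ.τ₂ := h2
    have : IsIso φ.τ₃ := h3
    exact ShortComplex.quasiIso_of_epi_of_isIso_of_mono φ
  have hq : QuasiIsoAt R.q n := by
    rw [quasiIsoAt_iff_isIso_homologyMap]
    have := R.mono_H n (by omega)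
    have := R.epi_Z n (by omega)
    have : Epi (R.E.homologyπ n ≫ homologyMap R.q n) := by
      rw [homologyπ_naturality]; infer_instance
    have := epi_of_epi (R.E.homologyπ n) (homologyMap R.q n)
    exact isIso_of_mono_of_epi _
  rw [← quasiIsoAt_iff_comp_left (colimit.ι (stageFun hP f b hK hT) k)]
  rwa [ι_resQ]

theorem res_le {n : ℤ} (hn : b < n) : IsZero ((res hP f b hK hT).X n) := by
  have := isIso_ι_f hP f b hK hT (k₀ := 0) (n := n) (by push_cast; omega)
  exact (hK n hn).of_iso (asIso ((colimit.ι (stageFun hP f b hK hT) 0).f n)).symm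

theorem res_split (i : ℤ) : ∃ (C : A) (_ : P C) (e : K.X i ⊞ C ≅ (res hP f b hK hT).X i),
    biprod.inl ≫ e.hom = ((stage hP f b hK hT 0).j ≫ colimit.ι (stageFun hP f b hK hT) 0).f i := by
  let k := (b + 1 - i).toNat
  have := isIso_ι_f hP f b hK hT (k₀ := k) (n := i) (by omega)
  obtain ⟨C, hC, e, he⟩ := (stage hP f b hK hT k).split i
  refine ⟨C, hC, e ≪≫ @asIso _ _ _ _ ((colimit.ι (stageFun hP f b hK hT) k).f i) this, ?_⟩
  rw [Iso.trans_hom, asIso_hom, ← Category.assoc, he, ι_resJ hP f b hK hT k]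
  rfl

include hP in
/-- Every map of bounded above complexes factors as a degreewise split inclusion with cokernel terms in the class,
followed by a degreewise epimorphic quasi-isomorphism. -/
theorem exists_factorization (hK : ∀ n, b < n → IsZero (K.X n)) (hT : ∀ n, b < n → IsZero (T.X n)) :
    ∃ (E : CochainComplex A ℤ) (j : K ⟶ E) (q : E ⟶ T), j ≫ q = f ∧ QuasiIso q ∧ (∀ n, Epi (q.f n)) ∧
      (∀ n, b < n → IsZero (E.X n)) ∧
      ∀ i, ∃ (C : A) (_ : P C) (e : K.X i ⊞ C ≅ E.X i), biprod.inl ≫ e.hom = j.f i :=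
  ⟨res hP f b hK hT, (stage hP f b hK hT 0).j ≫ colimit.ι (stageFun hP f b hK hT) 0, resQ hP f b hK hT,
    (Category.assoc _ _ _).trans ((congrArg ((stage hP f b hK hT 0).j ≫ ·) (ι_resQ hP f b hK hT 0)).trans (stage hP f b hK hT 0).fac),
    quasiIso_resQ hP f b hK hT, epi_resQ_f hP f b hK hT, fun _ hn => res_le hP f b hK hT hn,
    res_split hP f b hK hT⟩

end GrothLib.BddRes
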