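import Groth.Agent.Lib.BddRes.Main
import Mathlib.CategoryTheory.Abelian.GrothendieckAxioms.Colim
import Mathlib.CategoryTheory.Abelian.FunctorCategory
import Mathlib.Algebra.Homology.ShortComplex.ExactFunctor

/-! # Resolving all the truncations of a complex compatibly -/

set_option autoImplicit false
universe v u

open CategoryTheory CategoryTheory.Limits HomologicalComplex ZeroObject

namespace GrothLib.BddRes

variable {A : Type u} [Category.{v} A] [Abelian A] [HasColimitsOfShape ℕ A] [HasExactColimitsOfShape ℕ A]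

/-- The homology of a sequential colimit is jointly generated by the stages. -/
theorem homology_colimit_hom_ext (F : ℕ ⥤ CochainComplex A ℤ) (i : ℤ) {W : A}
    (g g' : (colimit F).homology i ⟶ W)
    (h : ∀ j, homologyMap (colimit.ι F j) i ≫ g = homologyMap (colimit.ι F j) i ≫ g') : g = g' := by
  rw [← sub_eq_zero]
  have h' : ∀ j, homologyMap (colimit.ι F j) i ≫ (g - g') = 0 := fun j => by
    rw [Preadditive.comp_sub, h, sub_self]
  generalize g - g' = g at h' ⊢
  let c := ComplexShape.up ℤ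
  let d : ∀ k k', F ⋙ eval A c k ⟶ F ⋙ eval A c k' := fun k k' =>
    { app := fun j => (F.obj j).d k k'
      naturality := fun j j' φ => (F.map φ).comm k k' }
  let S : ShortComplex (ℕ ⥤ A) := ShortComplex.mk (d (c.prev i) i) (d i (c.next i))
    (by ext j; exact (F.obj j).d_comp_d _ _ _)
  let e : S.map (colim (J := ℕ) (C := A)) ≅ (colimit F).sc i :=
    ShortComplex.isoMk (preservesColimitIso (eval A c (c.prev i)) F).symm
      (preservesColimitIso (eval A c i) F).symm (preservesColimitIso (eval A c (c.next i)) F).symm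
      (by
        refine colimit.hom_ext fun j => ?_
        simp only [Iso.symm_hom, ShortComplex.map_f, S]
        erw [ι_preservesColimitIso_inv_assoc]
        erw [ι_colimMap_assoc]
        erw [ι_preservesColimitIso_inv]
        exact (colimit.ι F j).comm _ _)
      (by
        refine colimit.hom_ext fun j => ?_
        simp only [Iso.symm_hom, ShortComplex.map_g, S]
        erw [ι_preservesColimitIso_inv_assoc]
        erw [ι_colimMap_assoc]
        erw [ι_preservesColimitIso_inv]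
        exact (colimit.ι F j).comm _ _)
  have hH : ShortComplex.homologyMap e.hom ≫ g = 0 := by
    rw [← cancel_epi (S.mapHomologyIso colim).inv]
    refine (colimit.hom_ext fun j => ?_)
    let τ : (evaluation ℕ A).obj j ⟶ colim :=
      { app := fun G => colimit.ι G j
        naturality := fun G G' φ => (ι_colimMap φ j).symm }
    let e' : (F.obj j).sc i ≅ S.map ((evaluation ℕ A).obj j) :=
      ShortComplex.isoMk (Iso.refl _) (Iso.refl _) (Iso.refl _)
        ((Category.id_comp _).trans (Category.comp_id _).symm)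
        ((Category.id_comp _).trans (Category.comp_id _).symm)
    have hkey : e'.hom ≫ S.mapNatTrans τ ≫ e.hom =
        (shortComplexFunctor A c i).map (colimit.ι F j) := by
      refine ShortComplex.hom_ext _ _ ?_ ?_ ?_ <;>
      · simp [e, e', τ]
        erw [Category.id_comp]
        exact ι_preservesColimitIso_inv _ _ _
    have h0 : ShortComplex.homologyMap (e'.hom ≫ S.mapNatTrans τ ≫ e.hom) ≫ g = 0 := by
      rw [hkey]
      exact h' j
    rw [ShortComplex.homologyMap_comp, ShortComplex.homologyMap_comp, Category.assoc,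
      ← cancel_epi (inv (ShortComplex.homologyMap e'.hom)), IsIso.inv_hom_id_assoc, comp_zero,
      ShortComplex.homologyMap_mapNatTrans, Category.assoc, Category.assoc, Category.assoc,
      ← cancel_epi (S.mapHomologyIso ((evaluation ℕ A).obj j)).inv, Iso.inv_hom_id_assoc,
      comp_zero] at h0
    rw [comp_zero, comp_zero]
    exact h0
  exact (cancel_epi (ShortComplex.homologyMap e.hom)).1 (hH.trans comp_zero.symm)

variable {P : ObjectProperty A} (hP : IsResClass P) (G : CochainComplex A ℤ)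

/-- The inclusion of truncations. -/
theorem exists_truncLE_lift (m m' : ℤ) (h : m ≤ m') :
    ∃ t : G.truncLE m ⟶ G.truncLE m', t ≫ G.ιTruncLE m' = G.ιTruncLE m := by
  have : (G.truncLE m).IsStrictlyLE m := inferInstance
  have : (G.truncLE m).IsStrictlyLE m' := (G.truncLE m).isStrictlyLE_of_le m m' h
  have : IsIso ((G.truncLE m).ιTruncLE m') := (CochainComplex.isIso_ιTruncLE_iff _ _).2 inferInstance
  exact ⟨inv ((G.truncLE m).ιTruncLE m') ≫ CochainComplex.truncLEMap (G.ιTruncLE m) m', by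
    rw [Category.assoc, CochainComplex.ιTruncLE_naturality, IsIso.inv_hom_id_assoc]⟩

theorem isZero_truncLE {n : ℕ} {i : ℤ} (hi : (n : ℤ) + 1 < i) : IsZero ((G.truncLE ((n : ℤ) + 1)).X i) :=
  (G.truncLE ((n : ℤ) + 1)).isZero_of_isStrictlyLE ((n : ℤ) + 1) i hi

/-- A resolved truncation. -/
structure TStage (P : ObjectProperty A) (n : ℕ) where
  /-- the complex -/
  K : CochainComplex A ℤ
  /-- the map -/
  π : K ⟶ G.truncLE ((n : ℤ) + 1)
  le : ∀ i, (n : ℤ) + 1 < i → IsZero (K.X i)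
  qis : QuasiIso π
  epi : ∀ i, Epi (π.f i)
  mem : ∀ i, P (K.X i)

variable {G}

include hP in
theorem exists_next {n : ℕ} (S : TStage G P n) :
    ∃ (S' : TStage G P (n + 1)) (j : S.K ⟶ S'.K),
      j ≫ S'.π ≫ G.ιTruncLE (((n + 1 : ℕ) : ℤ) + 1) = S.π ≫ G.ιTruncLE ((n : ℤ) + 1) ∧
      ∀ i, ∃ (C : A) (_ : P C) (e : S.K.X i ⊞ C ≅ S'.K.X i), biprod.inl ≫ e.hom = j.f i := by
  obtain ⟨t, ht⟩ := exists_truncLE_lift G ((n : ℤ) + 1) (((n + 1 : ℕ) : ℤ) + 1) (by push_cast; omega)
  obtain ⟨E, j, q, hjq, hq, hepi, hle, hsplit⟩ := exists_factorization hP (S.π ≫ t) (((n + 1 : ℕ) : ℤ) + 1)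
    (fun i hi => S.le i (by push_cast at hi; omega)) (fun i hi => isZero_truncLE G hi)
  refine ⟨⟨E, q, hle, hq, hepi, fun i => ?_⟩, j, ?_, hsplit⟩
  · obtain ⟨C, hC, e, -⟩ := hsplit i
    exact hP.biprod (S.mem i) hC ⟨e.symm⟩
  · change j ≫ q ≫ _ = _
    rw [← Category.assoc j, hjq, Category.assoc, ht]

include hP in
variable (G) in
theorem exists_first : Nonempty (TStage G P 0) := by
  obtain ⟨E, j, q, -, hq, hepi, hle, hsplit⟩ :=
    exists_factorization hP (0 : (0 : CochainComplex A ℤ) ⟶ G.truncLE (((0 : ℕ) : ℤ) + 1)) (((0 : ℕ) : ℤ) + 1)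
      (fun i _ => (HomologicalComplex.eval A _ i).map_isZero (isZero_zero _)) (fun i hi => isZero_truncLE G hi)
  exact ⟨⟨E, q, hle, hq, hepi, fun i => by
    obtain ⟨C, hC, e, -⟩ := hsplit i
    exact hP.biprod (hP.zero _ ((HomologicalComplex.eval A _ i).map_isZero (isZero_zero _))) hC ⟨e.symm⟩⟩⟩

/-- The chosen stages. -/
noncomputable def tstage : ∀ n : ℕ, TStage G P n
  | 0 => (exists_first hP G).some
  | n + 1 => (exists_next hP (tstage n)).choose

include hP in
variable (G) in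
theorem exists_system :
    ∃ (Kc : ℕ ⥤ CochainComplex A ℤ) (π : ∀ n : ℕ, Kc.obj n ⟶ G.truncLE ((n : ℤ) + 1)),
      (∀ n : ℕ, Kc.map (homOfLE (Nat.le_succ n)) ≫ π (n + 1) ≫ G.ιTruncLE (((n + 1 : ℕ) : ℤ) + 1) =
        π n ≫ G.ιTruncLE ((n : ℤ) + 1)) ∧
      (∀ n : ℕ, QuasiIso (π n) ∧ ∀ i : ℤ, Epi ((π n).f i)) ∧
      (∀ n : ℕ, ∀ i : ℤ, (n : ℤ) + 1 < i → IsZero ((Kc.obj n).X i)) ∧
      (∀ (n : ℕ) (i : ℤ), P ((Kc.obj n).X i)) ∧
      (∀ (n : ℕ) (i : ℤ), ∃ r : (Kc.obj (n + 1)).X i ⟶ (Kc.obj n).X i,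
        (Kc.map (homOfLE (Nat.le_succ n))).f i ≫ r = 𝟙 _ ∧
        ∃ C, P C ∧ Nonempty (cokernel ((Kc.map (homOfLE (Nat.le_succ n))).f i) ≅ C)) ∧
      ∃ c : colimit Kc ⟶ G, (∀ n : ℕ, colimit.ι Kc n ≫ c = π n ≫ G.ιTruncLE ((n : ℤ) + 1)) ∧ QuasiIso c := by
  let S : ∀ n, TStage G P n := tstage hP
  let j : ∀ n, (S n).K ⟶ (S (n + 1)).K := fun n => (exists_next hP (S n)).choose_spec.choose
  have hj : ∀ n, j n ≫ (S (n + 1)).π ≫ G.ιTruncLE (((n + 1 : ℕ) : ℤ) + 1) =
      (S n).π ≫ G.ιTruncLE ((n : ℤ) + 1) := fun n => (exists_next hP (S n)).choose_spec.choose_spec.1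
  have hs : ∀ n i, ∃ (C : A) (_ : P C) (e : (S n).K.X i ⊞ C ≅ (S (n + 1)).K.X i), biprod.inl ≫ e.hom = (j n).f i :=
    fun n => (exists_next hP (S n)).choose_spec.choose_spec.2
  let Kc : ℕ ⥤ CochainComplex A ℤ := Functor.ofSequence (X := fun n => (S n).K) j
  have hKc : ∀ n, Kc.map (homOfLE (Nat.le_succ n)) = j n := fun n => Functor.ofSequence_map_homOfLE_succ _ n
  have hcomm : ∀ n : ℕ, Kc.map (homOfLE (Nat.le_succ n)) ≫ (S (n + 1)).π ≫ G.ιTruncLE (((n + 1 : ℕ) : ℤ) + 1) =
      (S n).π ≫ G.ιTruncLE ((n : ℤ) + 1) := fun n => by rw [hKc]; exact hj n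
  refine ⟨Kc, fun n => (S n).π, hcomm, fun n => ⟨(S n).qis, (S n).epi⟩, fun n => (S n).le, fun n => (S n).mem,
    fun n i => ?_, ?_⟩
  · obtain ⟨C, hC, e, he⟩ := hs n i
    rw [hKc]
    refine ⟨e.inv ≫ biprod.fst, ?_, C, hC, ⟨cokernelIsoOfEq he.symm ≪≫ cokernelCompIsIso _ _ ≪≫
      IsColimit.coconePointUniqueUpToIso (cokernelIsCokernel (biprod.inl : (S n).K.X i ⟶ (S n).K.X i ⊞ C))
        (biprod.isCokernelInlCokernelFork _ _)⟩⟩
    rw [← he]
    exact ((Category.assoc _ _ _).trans (congrArg (biprod.inl ≫ ·) (e.hom_inv_id_assoc _))).trans biprod.inl_fst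
  let α : Kc ⟶ (Functor.const ℕ).obj G :=
    NatTrans.ofSequence (fun n => (S n).π ≫ G.ιTruncLE ((n : ℤ) + 1)) fun n =>
      (hcomm n).trans (Category.comp_id _).symm
  let c : colimit Kc ⟶ G := colimit.desc Kc ⟨G, α⟩
  have hc : ∀ n : ℕ, colimit.ι Kc n ≫ c = (S n).π ≫ G.ιTruncLE ((n : ℤ) + 1) := fun n => colimit.ι_desc _ _
  refine ⟨c, hc, (quasiIso_iff _).2 fun i => (quasiIsoAt_iff_isIso_homologyMap _ i).2 ?_⟩
  let n₀ := i.toNat
  have hiso : ∀ n, n₀ ≤ n → IsIso (homologyMap (colimit.ι Kc n ≫ c) i) := fun n hn => by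
    rw [hc, ← quasiIsoAt_iff_isIso_homologyMap]
    have h1 := (quasiIso_iff _).1 (S n).qis i
    have h2 : QuasiIsoAt (G.ιTruncLE ((n : ℤ) + 1)) i := G.quasiIsoAt_ιTruncLE _ _ (by omega)
    exact quasiIsoAt_comp (S n).π (G.ιTruncLE ((n : ℤ) + 1)) i
  have h₀ : IsIso (homologyMap (colimit.ι Kc n₀) i ≫ homologyMap c i) := by
    rw [← homologyMap_comp]; exact hiso n₀ le_rfl
  let s := inv (homologyMap (colimit.ι Kc n₀) i ≫ homologyMap c i) ≫ homologyMap (colimit.ι Kc n₀) i
  have hbig : ∀ n, n₀ ≤ n → homologyMap (colimit.ι Kc n) i ≫ homologyMap c i ≫ s = homologyMap (colimit.ι Kc n) i := by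
    intro n hn
    have := hiso n hn
    have hw := congrArg (homologyMap · i) (colimit.w Kc (homOfLE hn))
    simp only [homologyMap_comp] at hw this
    have : IsIso (homologyMap (Kc.map (homOfLE hn)) i) := by
      have h1 := h₀
      rw [← hw, Category.assoc] at h1
      exact IsIso.of_isIso_comp_right _ (homologyMap (colimit.ι Kc n) i ≫ homologyMap c i)
    rw [← cancel_epi (homologyMap (Kc.map (homOfLE hn)) i), reassoc_of% hw, hw]
    simp only [s, ← Category.assoc, IsIso.hom_inv_id, Category.id_comp]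
  have hid : homologyMap c i ≫ s = 𝟙 _ := by
    refine homology_colimit_hom_ext Kc i _ _ fun n => ?_
    rw [Category.comp_id]
    rcases le_total n₀ n with hn | hn
    · exact hbig n hn
    · rw [← colimit.w Kc (homOfLE hn), homologyMap_comp, Category.assoc, hbig n₀ le_rfl]
  refine ⟨s, hid, ?_⟩
  simp only [s, Category.assoc, IsIso.inv_hom_id]

end GrothLib.BddRes
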