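import Mathlib.Algebra.Homology.HomotopyCategory.MappingCone
import Mathlib.Algebra.Homology.HomotopyCategory.HomComplexSingle
import Mathlib.Algebra.Homology.Refinements
import Mathlib.Algebra.Homology.HomologicalComplexAbelian
import Mathlib.Algebra.Homology.Embedding.CochainComplex

/-! # Resolving a bounded above map by objects of a class, one degree at a time -/

set_option autoImplicit false
universe v u

open CategoryTheory CategoryTheory.Limits HomologicalComplex
open CochainComplex (mappingCone)
open CochainComplex.HomComplex (Cochain δ)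

namespace GrothLib.BddRes

variable {A : Type u} [Category.{v} A] [Abelian A]

/-- A class of objects good enough for resolutions. -/
structure IsResClass (P : ObjectProperty A) : Prop where
  zero : ∀ X, IsZero X → P X
  biprod : ∀ {X Y Z : A}, P X → P Y → Nonempty (Z ≅ X ⊞ Y) → P Z
  cover : ∀ X, ∃ (F : A) (π : F ⟶ X), Epi π ∧ P F

variable (P : ObjectProperty A) {K T : CochainComplex A ℤ} (f : K ⟶ T) (b : ℤ)

/-- An enlargement of `K` over `T` which resolves `T` in degrees above `m`. -/
structure Stg (m : ℤ) where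
  /-- the complex -/
  E : CochainComplex A ℤ
  /-- the inclusion -/
  j : K ⟶ E
  /-- the map -/
  q : E ⟶ T
  fac : j ≫ q = f
  le : ∀ n, b < n → IsZero (E.X n)
  split : ∀ i, ∃ (C : A) (_ : P C) (e : K.X i ⊞ C ≅ E.X i), biprod.inl ≫ e.hom = j.f i
  epi_f : ∀ n, m ≤ n → Epi (q.f n)
  epi_Z : ∀ n, m ≤ n → Epi (cyclesMap q n)
  mono_H : ∀ n, m < n → Mono (homologyMap q n)

variable {P} (hP : IsResClass P) {f b} {m : ℤ} (R : Stg P f b m) (m' : ℤ)

/-- Pairs of a cycle and a primitive of its image. -/
noncomputable abbrev pb : A := pullback (R.E.iCycles m ≫ R.q.f m) (T.d m' m)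

/-- The new generators. -/
noncomputable def gens : A := (hP.cover (pb R m')).choose

/-- The covering map. -/
noncomputable def gensπ : gens hP R m' ⟶ pb R m' := (hP.cover (pb R m')).choose_spec.choose

instance epi_gensπ : Epi (gensπ hP R m') := (hP.cover (pb R m')).choose_spec.choose_spec.1

theorem mem_gens : P (gens hP R m') := (hP.cover (pb R m')).choose_spec.choose_spec.2

/-- The new generators as a complex. -/
noncomputable def gensCx : CochainComplex A ℤ := (CochainComplex.singleFunctor A m).obj (gens hP R m')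

theorem isZero_gensCx {n : ℤ} (h : n ≠ m) : IsZero ((gensCx hP R m').X n) :=
  HomologicalComplex.isZero_single_obj_X _ m _ n h

/-- The top degree. -/
noncomputable def gensTop : (gensCx hP R m').X m ≅ gens hP R m' :=
  HomologicalComplex.singleObjXSelf (ComplexShape.up ℤ) m (gens hP R m')

/-- The classes to kill. -/
noncomputable def attach : gensCx hP R m' ⟶ R.E :=
  HomologicalComplex.mkHomFromSingle (gensπ hP R m' ≫ pullback.fst _ _ ≫ R.E.iCycles m) fun k _ => by
    rw [Category.assoc, Category.assoc, R.E.iCycles_d, comp_zero, comp_zero]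

theorem attach_f : (attach hP R m').f m =
    (gensTop hP R m').hom ≫ gensπ hP R m' ≫ pullback.fst _ _ ≫ R.E.iCycles m :=
  HomologicalComplex.mkHomFromSingle_f _ _

variable {m'} (hm : m' + 1 = m)

/-- The primitives. -/
noncomputable def prim : Cochain (gensCx hP R m') T (-1) :=
  Cochain.fromSingleMk (q := m') (gensπ hP R m' ≫ pullback.snd _ _) (show m + (-1) = m' by omega)

theorem prim_v : (prim hP R hm).v m m' (by omega) = (gensTop hP R m').hom ≫ gensπ hP R m' ≫ pullback.snd _ _ :=
  Cochain.fromSingleMk_v _ _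

theorem δ_prim : δ (-1) 0 (prim hP R hm) = Cochain.ofHom (attach hP R m' ≫ R.q) := by
  refine CochainComplex.HomComplex.Cochain.ext₀ _ _ fun p => ?_
  by_cases hp : p = m
  · subst hp
    rw [Cochain.ofHom_v, HomologicalComplex.comp_f, attach_f]
    refine (Cochain.congr_v (Cochain.δ_fromSingleMk _ _ 0 p (add_zero p)) p p (add_zero p)).trans ?_
    refine (Cochain.fromSingleMk_v _ _).trans ?_
    simp only [Category.assoc]
    rw [pullback.condition]
    rfl
  · exact (isZero_gensCx hP R m' hp).eq_of_src _ _

/-- The next complex. -/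
noncomputable def nextE : CochainComplex A ℤ := mappingCone (attach hP R m')

/-- The inclusion. -/
noncomputable def incl : R.E ⟶ nextE hP R (m' := m') := CochainComplex.mappingCone.inr _

/-- The next map. -/
noncomputable def nextQ : nextE hP R (m' := m') ⟶ T :=
  CochainComplex.mappingCone.desc _ (prim hP R hm) R.q (δ_prim hP R hm)

theorem incl_nextQ : incl hP R ≫ nextQ hP R hm = R.q :=
  CochainComplex.mappingCone.inr_desc _ _ _ _

theorem isIso_incl_f {n : ℤ} (h : n + 1 ≠ m) : IsIso ((incl hP R (m' := m')).f n) := by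
  refine ⟨(CochainComplex.mappingCone.snd (attach hP R m')).v n n (add_zero n),
    CochainComplex.mappingCone.inr_f_snd_v _ n, ?_⟩
  have h1 := CochainComplex.mappingCone.id_X (attach hP R m') n (n + 1) rfl
  rw [(isZero_gensCx hP R m' h).eq_of_tgt ((CochainComplex.mappingCone.fst (attach hP R m')).1.v n (n + 1) rfl) 0,
    zero_comp, zero_add] at h1
  exact h1

theorem mono_incl_f (n : ℤ) : Mono ((incl hP R (m' := m')).f n) :=
  (SplitMono.mk _ (CochainComplex.mappingCone.inr_f_snd_v (attach hP R m') n)).mono

/-- The element of the new complex given by the generators. -/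
noncomputable def genIn : gens hP R m' ⟶ (nextE hP R (m' := m')).X m' :=
  (gensTop hP R m').inv ≫ (CochainComplex.mappingCone.inl (attach hP R m')).v m m' (by omega)

theorem genIn_d : genIn hP R hm ≫ (nextE hP R (m' := m')).d m' m =
    gensπ hP R m' ≫ pullback.fst _ _ ≫ R.E.iCycles m ≫ (incl hP R).f m := by
  rw [genIn, Category.assoc]
  refine (congrArg (_ ≫ ·) (CochainComplex.mappingCone.inl_v_d (attach hP R m') m m' (m + 1)
    (by omega) (by omega))).trans ?_
  rw [(isZero_gensCx hP R m' (show m + 1 ≠ m by omega)).eq_of_tgt ((gensCx hP R m').d m (m + 1)) 0, zero_comp,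
    sub_zero, attach_f]
  simp only [Category.assoc, Iso.inv_hom_id_assoc]
  rfl

theorem genIn_q : genIn hP R hm ≫ (nextQ hP R hm).f m' = gensπ hP R m' ≫ pullback.snd _ _ := by
  rw [genIn, Category.assoc]
  refine (congrArg (_ ≫ ·) (CochainComplex.mappingCone.inl_v_desc_f (attach hP R m') _ _ _ m m' (by omega))).trans ?_
  rw [prim_v hP R hm]
  exact (gensTop hP R m').inv_hom_id_assoc _

theorem epi_next_f {n : ℤ} (hn : m' ≤ n) : Epi ((nextQ hP R hm).f n) := by
  by_cases h : m ≤ n
  · have := R.epi_f n h
    have : Epi ((incl hP R).f n ≫ (nextQ hP R hm).f n) := by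
      rw [← HomologicalComplex.comp_f, incl_nextQ]; infer_instance
    exact epi_of_epi ((incl hP R (m' := m')).f n) _
  · obtain rfl : n = m' := by omega
    rw [epi_iff_surjective_up_to_refinements]
    intro W t
    have hz : (t ≫ T.d n m) ≫ T.d m (m + 1) = 0 := by rw [Category.assoc, T.d_comp_d, comp_zero]
    have := R.epi_Z m le_rfl
    obtain ⟨W₁, π₁, _, z, hz₁⟩ := (epi_iff_surjective_up_to_refinements (cyclesMap R.q m)).1 inferInstance
      (T.liftCycles (t ≫ T.d n m) (m + 1) (by simp) hz)
    let l : W₁ ⟶ pb R n := pullback.lift z (π₁ ≫ t) (by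
      rw [← cyclesMap_i, ← Category.assoc, ← hz₁, Category.assoc, liftCycles_i, Category.assoc])
    obtain ⟨W₂, π₂, _, c, hc⟩ := (epi_iff_surjective_up_to_refinements (gensπ hP R n)).1 inferInstance l
    refine ⟨W₂, π₂ ≫ π₁, inferInstance, c ≫ genIn hP R hm, ?_⟩
    rw [Category.assoc, Category.assoc, genIn_q, ← Category.assoc c, ← hc, Category.assoc, pullback.lift_snd]

theorem epi_next_Z {n : ℤ} (hn : m' ≤ n) : Epi (cyclesMap (nextQ hP R hm) n) := by
  by_cases h : m ≤ n
  · have := R.epi_Z n h
    have : Epi (cyclesMap (incl hP R) n ≫ cyclesMap (nextQ hP R hm) n) := by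
      rw [← cyclesMap_comp, incl_nextQ]; infer_instance
    exact epi_of_epi (cyclesMap (incl hP R (m' := m')) n) _
  · obtain rfl : n = m' := by omega
    rw [epi_iff_surjective_up_to_refinements]
    intro W z
    let l : W ⟶ pb R n := pullback.lift 0 (z ≫ T.iCycles n) (by
      rw [zero_comp, Category.assoc, T.iCycles_d, comp_zero])
    obtain ⟨W₁, π₁, _, c, hc⟩ := (epi_iff_surjective_up_to_refinements (gensπ hP R n)).1 inferInstance l
    have hx : (c ≫ genIn hP R hm) ≫ (nextE hP R (m' := n)).d n m = 0 := by
      rw [Category.assoc, genIn_d, ← Category.assoc c, ← hc, Category.assoc, pullback.lift_fst_assoc]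
      simp
    refine ⟨W₁, π₁, inferInstance, (nextE hP R (m' := n)).liftCycles (c ≫ genIn hP R hm) m (by simp; omega) hx, ?_⟩
    rw [← cancel_mono (T.iCycles n), Category.assoc, Category.assoc, cyclesMap_i, liftCycles_i_assoc]
    rw [Category.assoc, genIn_q, ← Category.assoc c, ← hc, Category.assoc, pullback.lift_snd]

theorem mono_next_H {n : ℤ} (hn : m' < n) : Mono (homologyMap (nextQ hP R hm) n) := by
  refine Preadditive.mono_of_cancel_zero _ fun {W} γ hγ => ?_
  obtain ⟨W₁, π₁, _, x, hx, hxγ⟩ :=
    (nextE hP R (m' := m')).eq_liftCycles_homologyπ_up_to_refinements γ (n + 1) (by simp)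
  have := isIso_incl_f hP R (m' := m') (show n + 1 ≠ m by omega)
  let e := x ≫ inv ((incl hP R (m' := m')).f n)
  have hxe : e ≫ (incl hP R (m' := m')).f n = x := by simp [e]
  have he : e ≫ R.E.d n (n + 1) = 0 := by
    have := mono_incl_f hP R (m' := m') (n + 1)
    rw [← cancel_mono ((incl hP R (m' := m')).f (n + 1)), zero_comp, Category.assoc,
      ← (incl hP R (m' := m')).comm, ← Category.assoc, hxe, hx]
  let zE := R.E.liftCycles e (n + 1) (by simp) he
  have hlift : zE ≫ cyclesMap (incl hP R (m' := m')) n =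
      (nextE hP R (m' := m')).liftCycles x (n + 1) (by simp) hx := by
    rw [← cancel_mono ((nextE hP R (m' := m')).iCycles n), Category.assoc, cyclesMap_i, liftCycles_i_assoc,
      liftCycles_i, hxe]
  have hkey : π₁ ≫ γ = (zE ≫ R.E.homologyπ n) ≫ homologyMap (incl hP R) n := by
    rw [hxγ, ← hlift, Category.assoc, Category.assoc, homologyπ_naturality]
  have h0 : (zE ≫ R.E.homologyπ n) ≫ homologyMap R.q n = 0 := by
    rw [← incl_nextQ hP R hm, homologyMap_comp, ← Category.assoc, ← hkey, Category.assoc, hγ, comp_zero]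
  rw [← cancel_epi π₁, comp_zero, hkey]
  by_cases h : m < n
  · have := R.mono_H n h
    rw [zero_of_comp_mono _ h0, zero_comp]
  · obtain rfl : n = m := by omega
    have hq : (e ≫ R.q.f n) ≫ T.d n (n + 1) = 0 := by
      rw [Category.assoc, R.q.comm, ← Category.assoc, he, zero_comp]
    have h1 : T.liftCycles (e ≫ R.q.f n) (n + 1) (by simp) hq ≫ T.homologyπ n = 0 := by
      have : T.liftCycles (e ≫ R.q.f n) (n + 1) (by simp) hq = zE ≫ cyclesMap R.q n := by
        refine (cancel_mono (T.iCycles n)).1 ((T.liftCycles_i _ _ _ _).trans ?_)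
        refine Eq.trans ?_ ((congrArg (zE ≫ ·) (cyclesMap_i R.q n)).symm.trans (Category.assoc _ _ _).symm)
        exact (R.E.liftCycles_i_assoc _ _ _ _ _).symm
      rw [this, Category.assoc, ← homologyπ_naturality, ← Category.assoc, h0]
    obtain ⟨W₂, π₂, _, t, ht⟩ :=
      (T.liftCycles_comp_homologyπ_eq_zero_iff_up_to_refinements m' n (n + 1) (by simp; omega) (by simp) _ hq).1 h1
    let l : W₂ ⟶ pb R m' := pullback.lift (π₂ ≫ zE) t (by
      rw [Category.assoc, liftCycles_i_assoc, ← ht])
    obtain ⟨W₃, π₃, _, c, hc⟩ := (epi_iff_surjective_up_to_refinements (gensπ hP R m')).1 inferInstance l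
    rw [← cancel_epi π₂, ← cancel_epi π₃, comp_zero, comp_zero, Category.assoc, homologyπ_naturality,
      ← Category.assoc zE, hlift]
    rw [← Category.assoc π₂, HomologicalComplex.comp_liftCycles, ← Category.assoc π₃,
      HomologicalComplex.comp_liftCycles]
    rw [HomologicalComplex.liftCycles_comp_homologyπ_eq_zero_iff_up_to_refinements _ m' n (n + 1) (by simp; omega)
      (by simp)]
    refine ⟨W₃, 𝟙 _, inferInstance, c ≫ genIn hP R hm, ?_⟩
    rw [Category.id_comp, Category.assoc, genIn_d, ← Category.assoc c, ← hc, Category.assoc,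
      pullback.lift_fst_assoc, Category.assoc, liftCycles_i_assoc, hxe]

theorem next_split (i : ℤ) :
    ∃ (C : A) (_ : P C) (e : K.X i ⊞ C ≅ (nextE hP R (m' := m')).X i),
      biprod.inl ≫ e.hom = (R.j ≫ incl hP R).f i := by
  obtain ⟨C, hC, e, he⟩ := R.split i
  by_cases h : i + 1 = m
  · subst h
    let inl' := (CochainComplex.mappingCone.inl (attach hP R m')).v (i + 1) i (by omega)
    let fst' := (CochainComplex.mappingCone.fst (attach hP R m')).1.v i (i + 1) rfl
    let snd' := (CochainComplex.mappingCone.snd (attach hP R m')).v i i (add_zero i)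
    let e' : K.X i ⊞ (C ⊞ gens hP R m') ≅ (nextE hP R (m' := m')).X i :=
      { hom := biprod.desc (R.j.f i ≫ (incl hP R).f i)
          (biprod.desc (biprod.inr ≫ e.hom ≫ (incl hP R).f i) ((gensTop hP R m').inv ≫ inl'))
        inv := biprod.lift (snd' ≫ e.inv ≫ biprod.fst)
          (biprod.lift (snd' ≫ e.inv ≫ biprod.snd) (fst' ≫ (gensTop hP R m').hom))
        hom_inv_id := by
          have h1 : (incl hP R (m' := m')).f i ≫ snd' = 𝟙 _ := CochainComplex.mappingCone.inr_f_snd_v _ i
          have h2 : (incl hP R (m' := m')).f i ≫ fst' = 0 := CochainComplex.mappingCone.inr_f_fst_v _ i (i + 1) rfl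
          have h3 : inl' ≫ snd' = 0 := CochainComplex.mappingCone.inl_v_snd_v _ (i + 1) i (by omega)
          have h4 : inl' ≫ fst' = 𝟙 _ := CochainComplex.mappingCone.inl_v_fst_v _ (i + 1) i rfl
          rw [← he]
          refine biprod.hom_ext' _ _ ?_ (biprod.hom_ext' _ _ ?_ ?_) <;>
            refine biprod.hom_ext _ _ ?_ (biprod.hom_ext _ _ ?_ ?_) <;>
            simp [reassoc_of% h1, reassoc_of% h2, reassoc_of% h3, reassoc_of% h4]
          all_goals first
            | (erw [reassoc_of% h3, zero_comp])
            | (erw [reassoc_of% h4]; simp)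
        inv_hom_id := by
          simp only [biprod.lift_desc, Category.assoc, Iso.hom_inv_id_assoc]
          have h5 : biprod.fst ≫ R.j.f i ≫ (incl hP R (m' := m')).f i +
              biprod.snd ≫ biprod.inr ≫ e.hom ≫ (incl hP R (m' := m')).f i =
                e.hom ≫ (incl hP R (m' := m')).f i := by
            rw [← he]
            simp only [Category.assoc]
            rw [← Category.assoc biprod.fst, ← Category.assoc biprod.snd, ← Preadditive.add_comp, biprod.total,
              Category.id_comp]
          rw [← add_assoc, ← Preadditive.comp_add, ← Preadditive.comp_add, h5, Iso.inv_hom_id_assoc]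
          exact (add_comm _ _).trans (CochainComplex.mappingCone.id_X (attach hP R m') i (i + 1) rfl) }
    exact ⟨C ⊞ gens hP R m', hP.biprod hC (mem_gens hP R m') ⟨Iso.refl _⟩, e', biprod.inl_desc _ _⟩
  · have := isIso_incl_f hP R (m' := m') h
    exact ⟨C, hC, e ≪≫ asIso ((incl hP R).f i), by
      rw [Iso.trans_hom, asIso_hom, ← Category.assoc, he]; rfl⟩

variable (hb : m ≤ b + 1)

/-- The next stage. -/
noncomputable def next : Stg P f b m' where
  E := nextE hP R
  j := R.j ≫ incl hP R
  q := nextQ hP R hm
  fac := by rw [Category.assoc, incl_nextQ, R.fac]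
  le n hn := (CochainComplex.mappingCone.isZero_X_iff _ n).2 ⟨isZero_gensCx hP R m' (by omega), R.le n hn⟩
  split := next_split hP R
  epi_f n hn := epi_next_f hP R hm hn
  epi_Z n hn := epi_next_Z hP R hm hn
  mono_H n hn := mono_next_H hP R hm hn

end GrothLib.BddRes
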